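import Mathlib.GroupTheory.SpecificGroups.Alternating
import Mathlib.GroupTheory.Perm.Centralizer
import Mathlib.GroupTheory.OrderOfElement

/-! Element orders of the alternating groups via cycle types. -/

namespace CfsgLib.AltOrders

open Equiv

theorem mem_range_orderOf_iff (n m : ℕ) :
    m ∈ Set.range (orderOf : alternatingGroup (Fin n) → ℕ) ↔
      ∃ s : Multiset ℕ, (∀ a ∈ s, 2 ≤ a) ∧ s.sum ≤ n ∧ Even (s.sum + Multiset.card s) ∧ s.lcm = m := by
  constructor
  · rintro ⟨σ, rfl⟩
    refine ⟨(σ : Perm (Fin n)).cycleType, fun a ha => Perm.two_le_of_mem_cycleType ha, ?_, ?_, ?_⟩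
    · rw [Perm.sum_cycleType]
      simpa using Finset.card_le_univ (σ : Perm (Fin n)).support
    · have h := σ.2
      rw [Perm.mem_alternatingGroup, Perm.sign_of_cycleType] at h
      rcases Nat.even_or_odd ((σ : Perm (Fin n)).cycleType.sum + Multiset.card (σ : Perm (Fin n)).cycleType) with he | ho
      · exact he
      · rw [ho.neg_one_pow] at h
        exact absurd h (by decide)
    · rw [Perm.lcm_cycleType, ← Subgroup.orderOf_coe]
  · rintro ⟨s, h2, hsum, heven, rfl⟩
    have hne : ({g : Perm (Fin n) | g.cycleType = s} : Finset _).Nonempty := by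
      rw [← Finset.card_ne_zero]
      intro h0
      rw [Perm.card_of_cycleType_eq_zero_iff] at h0
      exact h0 ⟨by simpa using hsum, h2⟩
    obtain ⟨g, hg⟩ := hne
    simp only [Finset.mem_filter, Finset.mem_univ, true_and] at hg
    refine ⟨⟨g, ?_⟩, ?_⟩
    · rw [Perm.mem_alternatingGroup, Perm.sign_of_cycleType, hg, heven.neg_one_pow]
    · rw [← Subgroup.orderOf_coe, ← Perm.lcm_cycleType]
      exact congrArg Multiset.lcm hg

end CfsgLib.AltOrders
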